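import Cfsg.Agent.Lib.CosetEnum.Suz.Exact
import Cfsg.Agent.Lib.CosetEnum.RigidChain

set_option autoImplicit false
set_option linter.all false

namespace CfsgLib.CosetEnum.Suz.Rigid

open CfsgLib.CosetEnum CfsgLib.CosetEnum.Rigid

/-- Level of the first point. -/
noncomputable def lvl0 : Lvl where
  T := CfsgLib.CosetEnum.Suz.table
  b := 0
  inOrb := fun _ => true
  path := pathTo CfsgLib.CosetEnum.Suz.par 64

/-- Level of base point 1. -/
noncomputable def lvl1 : Lvl := lvlOf CfsgLib.CosetEnum.Suz.subTable Base.B0.pts Base.B0.par Base.B0.pos 1 1365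

/-- Level of base point 2. -/
noncomputable def lvl2 : Lvl := lvlOf Base.B0.table Base.B1.pts Base.B1.par Base.B1.pos 2 1024

/-- Level of base point 160. -/
noncomputable def lvl3 : Lvl := lvlOf Base.B1.table Base.B2.pts Base.B2.par Base.B2.pos 160 180

/-- The levels. -/
noncomputable def levels : List Lvl := [lvl0, lvl1, lvl2, lvl3]

theorem base_eq : baseOf levels = [0, 1, 2, 160] := rfl

theorem pi_g : Acts π g CfsgLib.CosetEnum.Suz.table := by
  intro x hx k
  have hx16 : x < 16 := lt_of_lt_of_le hx (by decide)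
  have h := pi_linv_apply CfsgLib.CosetEnum.Suz.table _ 1782 ip_ok row_ok π g hπ hx16 k
  rwa [linv_eq x hx16] at h

theorem g_inv : ∀ x < CfsgLib.CosetEnum.Suz.table.length, (g x)⁻¹ = g x := by
  intro x hx
  have hx16 : x < 16 := lt_of_lt_of_le hx (by decide)
  have h := hinv x hx16
  rw [linv_eq x hx16] at h
  exact h.symm

theorem stab_eq : (⊤ : Subgroup Cfsg.Spor.Suz) ⊓ fixer π 0 = CfsgLib.CosetEnum.Suz.H :=
  haveI : Finite Cfsg.Spor.Suz := finite
  fixer_zero_le (n := 1782) (by omega) _ covers (sub_fix (by omega)) (transitive (by omega))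

theorem chain : Chain π ⊤ levels := by
  haveI : Finite Cfsg.Spor.Suz := finite
  refine ⟨realised_top π g ip_ok row_ok hπ (by decide), fun _ _ _ _ => rfl, ?_⟩
  show Chain π ((⊤ : Subgroup Cfsg.Spor.Suz) ⊓ fixer π 0) [lvl1, lvl2, lvl3]
  rw [stab_eq]
  have hH : Nat.card CfsgLib.CosetEnum.Suz.H = 251596800 := card_H
  obtain ⟨t0, c0, o0⟩ := orbit_step sub_spec.1 Base.B0.table Base.B0.ws Base.B0.pts Base.B0.par Base.B0.pos 1 1365 (by omega) (by decide +kernel)
    Base.B0.step_ok (by decide +kernel) rfl Base.B0.comp_ok (by decide +kernel)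
  obtain ⟨t1, c1, o1⟩ := orbit_step t0 Base.B1.table Base.B1.ws Base.B1.pts Base.B1.par Base.B1.pos 2 1024 (by omega) (by decide +kernel)
    Base.B1.step_ok (by decide +kernel) rfl Base.B1.comp_ok (by decide +kernel)
  obtain ⟨t2, c2, o2⟩ := orbit_step t1 Base.B2.table Base.B2.ws Base.B2.pts Base.B2.par Base.B2.pos 160 180 (by omega) (by decide +kernel)
    Base.B2.step_ok (by decide +kernel) rfl Base.B2.comp_ok (by decide +kernel)
  rw [hH] at c0 o0
  have hpos : 0 < Nat.card ((CfsgLib.CosetEnum.Suz.H ⊓ fixer π 1) ⊓ fixer π 2 ⊓ fixer π 160 :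
      Subgroup Cfsg.Spor.Suz) := Nat.card_pos
  refine ⟨sub_spec.1, o0 (by nlinarith), t0, o1 (by nlinarith), t1, o2 (by nlinarith), ?_⟩
  show ∀ z ∈ (CfsgLib.CosetEnum.Suz.H ⊓ fixer π 1) ⊓ fixer π 2 ⊓ fixer π 160, z = 1
  intro z hz
  rw [Subgroup.card_eq_one.1 (le_antisymm (by nlinarith) hpos), Subgroup.mem_bot] at hz
  exact hz

end CfsgLib.CosetEnum.Suz.Rigid
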