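import Cfsg.Agent.Lib.CosetEnum.Suz.RigidCentS

set_option autoImplicit false

namespace CfsgLib.CosetEnum.Suz.Rigid

/-- An element of order 13. -/
def wx : List ℕ := [3, 4, 2, 1, 5, 2, 0]

/-- An element of order 6 normalising `⟨x⟩`. -/
def ws6 : List ℕ := [2, 1, 3, 2, 4, 5, 1, 0, 2, 1, 3, 5, 2, 3, 1, 2, 1, 0, 1, 5, 4, 3, 2, 3, 4, 2]

/-- An involution commuting with the element of order 6. -/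
def ww : List ℕ := [0, 3, 2, 1, 0, 3, 2, 1, 0, 3, 2, 1, 5, 4, 2, 3, 2, 3, 1, 2, 3, 2, 1, 0, 6, 1, 2, 3, 2, 1, 4, 3, 6, 5, 1, 2, 6]

/-- Its image under an outer automorphism. -/
def ww2 : List ℕ := [1, 3, 2, 4, 3, 5, 1, 2, 3, 2, 1, 5, 2, 3, 4, 3, 2, 3, 1, 2, 3, 4, 1, 0, 1, 2, 3, 1, 2, 1, 6, 1, 2, 3, 2, 1, 4, 3, 6, 5, 1, 2, 6]

/-- The relations. -/
def rels : List (List ℕ) := [[2, 0, 0, 2, 1, 1, 1, 2, 0, 0, 2, 1, 1, 1, 2, 0, 0, 2, 1, 1, 1, 2, 0, 0, 2, 1, 1, 1]]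

/-- The generators as words in `x` and `w`. -/
def genPats : List (List ℕ) := [[1, 1, 1, 2, 1, 1, 1, 1, 2, 1, 2, 0, 0, 2, 0, 0, 0, 2, 1, 1, 2, 1, 1, 1, 2, 0, 2, 1, 2, 1, 2, 1, 1, 2, 1, 1],
  [0, 2, 0, 2, 0, 2, 1, 1, 1, 2, 1, 1, 2, 1, 2, 1, 2, 0, 2, 1, 1, 2, 0, 2, 0, 2, 0, 2, 1, 1, 1, 1, 2, 1, 1, 2, 1, 1],
  [2, 0, 2, 0, 2, 1, 1, 1, 2, 1, 1, 2, 1, 2, 1, 2, 0, 2, 1, 1, 2, 0, 2, 0, 2, 0, 2, 1, 1, 1, 1, 2, 1, 1, 2, 1],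
  [1, 1, 1, 2, 0, 2, 0, 0, 2, 1, 2, 0, 0, 2, 0, 2, 0, 0, 0, 2, 1, 2, 0, 0, 0, 2, 0, 0, 2, 0, 2, 0, 0, 2, 0, 0, 2, 1],
  [2, 1, 2, 0, 2, 1, 2, 1, 1, 2, 1, 1, 2, 1, 2, 1, 2, 0, 2, 0, 2, 1, 1, 2, 1, 2, 0, 0, 2, 1, 2, 0, 2, 1, 1, 2, 1, 1, 1],
  [2, 1, 1, 2, 0, 2, 0, 0, 0, 2, 0, 2, 0, 2, 0, 2, 0, 0, 0, 0, 2, 0, 2, 0, 2, 0, 2, 0, 0, 0, 2, 0, 2, 1, 1, 2, 0, 0, 0],
  [0, 2, 0, 2, 1, 2, 0, 0, 2, 0, 0, 2, 1, 1, 2, 0, 2, 0, 0, 0, 0, 0, 2, 1, 2, 1, 1, 2, 0, 2, 1, 2, 1, 1, 1, 1, 1, 1]]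

/-- The certificates of the candidate pairs. -/
def certs : List ℕ := [32, 32, 32, 32, 32, 32, 32, 32, 32, 32, 32, 32, 16, 16, 16, 15, 16, 16, 16, 16, 16, 16, 16, 16, 16, 16, 16, 16, 16, 16, 16, 16, 16, 16, 16, 16, 16, 16, 16, 16, 16, 16, 16, 16, 16, 16, 16, 16, 16, 16, 16, 16, 16, 16, 16, 16, 16, 16, 16, 16, 16, 16, 16, 16, 16, 16, 16, 16, 16, 16, 16, 16, 32, 32, 32, 32, 32, 32, 32, 32, 32, 32, 32, 32, 16, 16, 16, 16, 16, 16, 16, 16, 16, 16, 16, 16, 16, 16, 16, 16, 16, 16, 16, 16, 16, 16, 31, 16, 16, 16, 16, 16, 16, 16, 16, 16, 16, 16, 16, 16, 16, 16, 16, 16, 16, 16, 16, 16, 16, 16, 16, 16, 16, 16, 16, 16, 16, 16, 16, 16, 16, 16, 16, 16]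

/-- Classes of the powers of `x`: exponent, class, conjugating exponent. -/
def powClass : List (ℕ × ℕ × ℕ) := [(1, 1, 0), (2, 2, 0), (3, 1, 2), (4, 1, 1), (5, 2, 4), (6, 2, 2), (7, 2, 5), (8, 2, 1), (9, 1, 4), (10, 1, 5), (11, 2, 3), (12, 1, 3)]

/-- A conjugator from the image of `x` under the graph automorphism to the square of `x`. -/
def wc : List ℕ := [2, 1, 0, 3, 4, 3, 2, 1, 3, 2, 3, 4, 2, 1, 0, 1, 2, 3, 2, 1, 5, 3, 0, 1, 2, 3, 2, 1, 5, 6, 1, 2, 3, 2, 1, 4, 3, 2, 3, 6]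

end CfsgLib.CosetEnum.Suz.Rigid
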