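import Cfsg.Agent.Lib.CosetEnum.Suz.RigidCentX
import Cfsg.Agent.Lib.CosetEnum.Suz.RigidNoSq
import Cfsg.Agent.Lib.CosetEnum.Suz.RigidCentS
import Cfsg.Agent.Lib.CosetEnum.Suz.RigidData
import Cfsg.Agent.Lib.CosetEnum.RigidOut

/-!
The outer automorphism group of the presented Suzuki group has order two.
-/

set_option autoImplicit false
set_option linter.style.longLine false

namespace CfsgLib.CosetEnum.Suz.Rigid

open Cfsg CfsgLib.CosetEnum CfsgLib.CosetEnum.Rigid

/-- The columns. -/
noncomputable abbrev tbl : List Tr := CfsgLib.CosetEnum.Suz.table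

theorem okW_wx : okW tbl.length wx = true := by decide +kernel

theorem conj_checks : (powClass.all (fun e =>
      (e.2.1 == 1 || e.2.1 == 2) &&
      eqW tbl (baseOf levels) ((wpow e.2.2 ws6).reverse ++ wpow e.2.1 wx ++ wpow e.2.2 ws6) (wpow e.1 wx) &&
      okW tbl.length (wpow e.2.2 ws6)) &&
    (List.range 12).all (fun i => powClass.any fun e => e.1 == i + 1) &&
    (List.range 13).all (fun i => eqW tbl (baseOf levels)
      ((wpow (10 * i % 13) wx).reverse ++ wpow i wx ++ ws6 ++ wpow (10 * i % 13) wx) ws6 &&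
      okW tbl.length (wpow (10 * i % 13) wx)) &&
    eqW tbl (baseOf levels) (ws6.reverse ++ wx ++ ws6) (wpow 4 wx) && okW tbl.length ws6 &&
    eqW tbl (baseOf levels) (wpow 13 wx) [] && eqW tbl (baseOf levels) (wpow 14 wx) wx &&
    neqW tbl 1782 wx [] 1) = true := by
  decide +kernel

theorem search_checks :
    (CentX.search.wX == wx && CentX.search.wY == wx && NoSq.search.wX == wx && NoSq.search.wY == wpow 2 wx &&
      CentS.search.wX == ws6 && CentS.search.wY == ws6 && CentX.found == (List.range 13).map (fun i => wpow i wx) &&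
      NoSq.found == []) = true := by
  decide +kernel

theorem el_x13 : el g wx ^ 13 = 1 := by
  have h := conj_checks
  simp only [Bool.and_eq_true] at h
  have := el_eq_of_eqW pi_g chain h.1.1.2
  rwa [el_rep, el_nil] at this

theorem order_x : orderOf (el g wx) = 13 := by
  haveI : Fact (Nat.Prime 13) := ⟨by norm_num⟩
  have h := conj_checks
  simp only [Bool.and_eq_true] at h
  refine orderOf_eq_prime el_x13 ?_
  rw [← el_nil g]
  exact el_ne_of_neqW pi_g h.2

theorem cent_x {z : Cfsg.Spor.Suz} (hz : z * el g wx = el g wx * z) : ∃ i < 13, z = el g wx ^ i := by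
  have h := search_checks
  simp only [Bool.and_eq_true, beq_iff_eq] at h
  obtain ⟨⟨⟨⟨⟨⟨⟨h1, h2⟩, -⟩, -⟩, -⟩, -⟩, h7⟩, -⟩ := h
  obtain ⟨l, hl, rfl⟩ := CentX.solve (z := z) (by rw [h1, h2]; exact hz)
  rw [h7, List.mem_map] at hl
  obtain ⟨i, hi, rfl⟩ := hl
  exact ⟨i, List.mem_range.1 hi, el_rep g i wx⟩

theorem no_square (z : Cfsg.Spor.Suz) : z * el g wx ≠ el g wx ^ 2 * z := by
  intro hz
  have h := search_checks
  simp only [Bool.and_eq_true, beq_iff_eq] at h
  obtain ⟨⟨⟨⟨⟨⟨⟨-, -⟩, h3⟩, h4⟩, -⟩, -⟩, -⟩, h8⟩ := h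
  obtain ⟨l, hl, -⟩ := NoSq.solve (z := z) (by rw [h3, h4, el_rep]; exact hz)
  rw [h8] at hl
  exact absurd hl (by simp)

theorem cent_s {z : Cfsg.Spor.Suz} (hz : z * el g ws6 = el g ws6 * z) : ∃ l ∈ CentS.found, z = el g l := by
  have h := search_checks
  simp only [Bool.and_eq_true, beq_iff_eq] at h
  obtain ⟨⟨⟨⟨⟨⟨⟨-, -⟩, -⟩, -⟩, h5⟩, h6⟩, -⟩, -⟩ := h
  exact CentS.solve (z := z) (by rw [h5, h6]; exact hz)

/-- The candidate images of the generating pair. -/
def cands : List (List ℕ × List ℕ) :=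
  (CentS.found.map fun l => (wpow 1 wx, l)) ++ CentS.found.map fun l => (wpow 2 wx, l)

/-- The images that occur. -/
def goods : List (List ℕ × List ℕ) := [(wpow 1 wx, ww), (wpow 2 wx, ww2)]

theorem cert_check :
    ((cands.zip certs).all fun e => pairOK tbl 1782 wx ww rels goods.length goods e.1 e.2) = true := by
  decide +kernel

theorem gen_checks : (((List.range 7).zip genPats).all (fun e => eqW tbl (baseOf levels) (subst wx ww e.2) [e.1]) &&
    Nat.beq genPats.length 7 && Nat.beq cands.length certs.length &&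
    rels.all (fun r => eqW tbl (baseOf levels) (subst wx ww r) []) &&
    eqW tbl (baseOf levels) (ww ++ ws6) (ws6 ++ ww)) = true := by
  decide +kernel

theorem ww_comm : el g ww * el g ws6 = el g ws6 * el g ww := by
  have h := gen_checks
  simp only [Bool.and_eq_true] at h
  have := el_eq_of_eqW pi_g chain h.2
  rw [el_append, el_append] at this
  exact this.symm

theorem generates : Subgroup.closure {el g wx, el g ww} = ⊤ := by
  refine eq_top_iff.2 (le_trans translation.closure_top ((Subgroup.closure_le _).2 ?_))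
  rintro _ ⟨x, hx, rfl⟩
  rcases gen_or_one x hx with h7 | h1
  · have h := gen_checks
    simp only [Bool.and_eq_true, List.all_eq_true] at h
    obtain ⟨⟨⟨⟨hgen, hlen⟩, -⟩, -⟩, -⟩ := h
    have hlen := Nat.eq_of_beq_eq_true hlen
    have hmem := hgen (x, genPats[x]'(by omega))
      (List.mem_iff_getElem.2 ⟨x, by simp [hlen, h7], by simp⟩)
    have he := el_eq_of_eqW pi_g chain hmem
    rw [el_subst g g_inv okW_wx, el_singleton] at he
    show g x ∈ _
    rw [← he, el]
    refine Subgroup.list_prod_mem _ fun z hz => ?_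
    obtain ⟨c, -, rfl⟩ := List.mem_map.1 hz
    unfold pat2
    split
    · exact Subgroup.subset_closure (Or.inl rfl)
    · split
      · exact Subgroup.inv_mem _ (Subgroup.subset_closure (Or.inl rfl))
      · exact Subgroup.subset_closure (Or.inr rfl)
  · show g x ∈ _
    rw [h1]
    exact one_mem _

theorem conj_mul (h1 h2 : Cfsg.Spor.Suz) (φ : MulAut Cfsg.Spor.Suz) (z : Cfsg.Spor.Suz) :
    (MulAut.conj (h1 * h2) * φ) z = h1 * (h2 * φ z * h2⁻¹) * h1⁻¹ := by
  rw [MulAut.mul_apply, MulAut.conj_apply]; group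

theorem normal_form (φ : MulAut Cfsg.Spor.Suz) : ∃ h : Cfsg.Spor.Suz, ∃ c ∈ cands,
    (MulAut.conj h * φ) (el g wx) = el g c.1 ∧ (MulAut.conj h * φ) (el g ww) = el g c.2 := by
  haveI : Finite Cfsg.Spor.Suz := finite
  haveI : Fact (Nat.Prime 13) := ⟨by norm_num⟩
  have hchk := conj_checks
  simp only [Bool.and_eq_true, List.all_eq_true, List.any_eq_true, Bool.or_eq_true, beq_iff_eq] at hchk
  obtain ⟨⟨⟨⟨⟨⟨⟨hpc, hcov⟩, hshift⟩, hsx⟩, hsok⟩, -⟩, h14⟩, -⟩ := hchk
  obtain ⟨c, i, hi0, hi13, hc⟩ := exists_conj_pow order_x (y := φ (el g wx))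
    (by rw [card_group]; norm_num) (by rw [MulEquiv.orderOf_eq, order_x])
  obtain ⟨⟨i', k, j⟩, he, hei⟩ := hcov (i - 1) (List.mem_range.2 (by omega))
  obtain ⟨⟨hk, hconj⟩, hokj⟩ := hpc _ he
  have hconj := el_eq_of_eqW pi_g chain hconj
  simp only at hei hk hconj hokj
  rw [el_append, el_append, el_reverse g g_inv hokj, el_rep g k, el_rep g i',
    show i' = i by omega] at hconj
  -- first conjugation
  set a := (el g (wpow j ws6))⁻¹ * c with ha
  have hx : a * φ (el g wx) * a⁻¹ = el g wx ^ k := by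
    calc a * φ (el g wx) * a⁻¹
        = (el g (wpow j ws6))⁻¹ * (c * φ (el g wx) * c⁻¹) * el g (wpow j ws6) := by rw [ha]; group
      _ = el g wx ^ k := by rw [hc, ← hconj]; group
  have hsx' : el g ws6 * el g wx * (el g ws6)⁻¹ = el g wx ^ 4 := by
    have := el_eq_of_eqW pi_g chain hsx
    rw [el_append, el_append, el_reverse g g_inv hsok, el_rep] at this
    rw [← this]; group
  set u := a * φ (el g ws6) * a⁻¹ with hu
  have hukx : u * el g wx ^ k * u⁻¹ = (el g wx ^ k) ^ 4 := by
    calc u * el g wx ^ k * u⁻¹ = a * φ (el g ws6 * el g wx * (el g ws6)⁻¹) * a⁻¹ := by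
          rw [← hx, hu, map_mul, map_mul, map_inv]; group
      _ = (el g wx ^ k) ^ 4 := by rw [hsx', map_pow, ← conj_pow, hx]
  have hcomm : ((el g ws6)⁻¹ * u) * el g wx ^ k = el g wx ^ k * ((el g ws6)⁻¹ * u) := by
    have h1 : el g ws6 * el g wx ^ k * (el g ws6)⁻¹ = (el g wx ^ k) ^ 4 := by
      rw [← conj_pow, hsx', ← pow_mul, ← pow_mul, mul_comm]
    rw [← h1] at hukx
    calc (el g ws6)⁻¹ * u * el g wx ^ k = (el g ws6)⁻¹ * (u * el g wx ^ k * u⁻¹) * u := by group
      _ = el g wx ^ k * ((el g ws6)⁻¹ * u) := by rw [hukx]; group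
  have hcomm' : ((el g ws6)⁻¹ * u) * el g wx = el g wx * ((el g ws6)⁻¹ * u) := by
    rcases hk with rfl | rfl
    · simpa using hcomm
    · have h14' : el g wx ^ 14 = el g wx := by
        have := el_eq_of_eqW pi_g chain h14
        rwa [el_rep] at this
      have := Commute.pow_right (show Commute ((el g ws6)⁻¹ * u) (el g wx ^ 2) from hcomm) 7
      rw [← pow_mul, h14'] at this
      exact this.eq
  obtain ⟨m, hm, hum⟩ := cent_x hcomm'
  obtain ⟨hsh, hokm⟩ := hshift m (List.mem_range.2 hm)
  have hsh := el_eq_of_eqW pi_g chain hsh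
  rw [el_append, el_append, el_append, el_reverse g g_inv hokm, el_rep g (10 * m % 13), el_rep g m] at hsh
  set b := el g wx ^ (10 * m % 13) with hb
  have hs : b * u * b⁻¹ = el g ws6 := by
    have : u = el g ws6 * el g wx ^ m := by rw [← hum]; group
    calc b * u * b⁻¹ = b * (el g ws6 * (el g wx ^ m * b⁻¹)) := by rw [this]; group
      _ = el g ws6 := hsh
  have hxb : b * el g wx ^ k * b⁻¹ = el g wx ^ k := by
    rw [hb, ← pow_add, add_comm, pow_add, mul_inv_cancel_right]
  have hwcomm : ((MulAut.conj (b * a) * φ) (el g ww)) * el g ws6 = el g ws6 * ((MulAut.conj (b * a) * φ) (el g ww)) := by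
    have es : (MulAut.conj (b * a) * φ) (el g ws6) = el g ws6 := by rw [conj_mul, ← hu, hs]
    conv_lhs => rw [← es]
    conv_rhs => rw [← es]
    rw [← map_mul, ← map_mul, ww_comm]
  obtain ⟨l, hl, hle⟩ := cent_s hwcomm
  refine ⟨b * a, (wpow k wx, l), ?_, ?_, hle⟩
  · simp only [cands, List.mem_append, List.mem_map]
    rcases hk with rfl | rfl
    · exact Or.inl ⟨l, hl, rfl⟩
    · exact Or.inr ⟨l, hl, rfl⟩
  · rw [conj_mul, hx, hxb, el_rep]

theorem out_le : Nat.card (Out Cfsg.Spor.Suz) ≤ 2 := by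
  haveI : Finite Cfsg.Spor.Suz := finite
  have h := gen_checks
  simp only [Bool.and_eq_true] at h
  exact card_out_le_goods pi_g chain g_inv okW_wx generates h.1.2 (goods := goods) cert_check h.1.1.2 normal_form

/-- The swap of the letters of `f` and `g`. -/
def sw (x : ℕ) : ℕ := if x = 5 then 6 else if x = 6 then 5 else x

theorem swap_checks : (ls.all (fun l => eqW tbl (baseOf levels) ((l.map sw).reverse) []) &&
    eqW tbl (baseOf levels) (wc.reverse ++ wx.map sw ++ wc) (wpow 2 wx) && okW tbl.length wc) = true := by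
  decide +kernel

/-- The images of the generators. -/
noncomputable def swapHom : FreeGroup Cfsg.Spor.Suz.Gen →* Cfsg.Spor.Suz := FreeGroup.lift fun a => g (sw (idx a))

theorem swapHom_gF : ∀ x < 16, swapHom (gF x) = g (sw x) := by
  intro x hx
  interval_cases x <;>
    first
    | (show FreeGroup.lift _ (FreeGroup.of _) = _; rw [FreeGroup.lift_apply_of]; rfl)
    | (show swapHom 1 = _; rw [map_one]; exact (map_one _).symm)

theorem swapHom_relators : ∀ r ∈ Cfsg.Spor.coxRelators Cfsg.Spor.Suz.edges ∪ {r | r ∈ Cfsg.Spor.Suz.extra},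
    swapHom r = 1 := by
  refine translation.relator_eq_one swapHom (fun x hx => ?_) fun l hl => ?_
  · rw [linv_eq x hx, swapHom_gF x hx]
    have hs : sw x < 16 := by unfold sw; split_ifs <;> omega
    have h := hinv (sw x) hs
    rwa [linv_eq _ hs] at h
  · have h := swap_checks
    simp only [Bool.and_eq_true, List.all_eq_true] at h
    have h1 := el_eq_of_eqW pi_g chain (h.1.1 l hl)
    rw [el_nil, el, List.reverse_reverse, List.map_map] at h1
    rw [List.map_congr_left fun x hx => swapHom_gF x (translation.lt16 l hl x hx)]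
    exact h1

/-- The endomorphism exchanging `f` and `g`. -/
noncomputable def theta₀ : Cfsg.Spor.Suz →* Cfsg.Spor.Suz := PresentedGroup.toGroup swapHom_relators

theorem theta₀_g {x : ℕ} (hx : x < 16) : theta₀ (g x) = g (sw x) := by
  rcases gen_or_one x hx with h | h
  · interval_cases x <;> exact PresentedGroup.toGroup.of swapHom_relators
  · have hx7 : ∀ y, 7 ≤ y → y < 16 → g y = 1 := by
      intro y h7 h16
      interval_cases y <;> exact map_one _
    by_cases h7 : x < 7
    · interval_cases x <;> exact PresentedGroup.toGroup.of swapHom_relators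
    · rw [h, map_one, show sw x = x by unfold sw; rw [if_neg (by omega), if_neg (by omega)], h]

theorem theta₀_twice : theta₀.comp theta₀ = MonoidHom.id Cfsg.Spor.Suz := by
  refine PresentedGroup.ext fun a => ?_
  cases a
  · show theta₀ (theta₀ (g 0)) = g 0
    rw [theta₀_g (by decide), theta₀_g (by decide)]; rfl
  · show theta₀ (theta₀ (g 1)) = g 1
    rw [theta₀_g (by decide), theta₀_g (by decide)]; rfl
  · show theta₀ (theta₀ (g 2)) = g 2
    rw [theta₀_g (by decide), theta₀_g (by decide)]; rfl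
  · show theta₀ (theta₀ (g 3)) = g 3
    rw [theta₀_g (by decide), theta₀_g (by decide)]; rfl
  · show theta₀ (theta₀ (g 4)) = g 4
    rw [theta₀_g (by decide), theta₀_g (by decide)]; rfl
  · show theta₀ (theta₀ (g 5)) = g 5
    rw [theta₀_g (by decide), theta₀_g (by decide)]; rfl
  · show theta₀ (theta₀ (g 6)) = g 6
    rw [theta₀_g (by decide), theta₀_g (by decide)]; rfl

/-- The graph automorphism. -/
noncomputable def theta : MulAut Cfsg.Spor.Suz :=
  MonoidHom.toMulEquiv theta₀ theta₀ theta₀_twice theta₀_twice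

theorem two_le_out : 2 ≤ Nat.card (Out Cfsg.Spor.Suz) := by
  haveI : Finite Cfsg.Spor.Suz := finite
  refine two_le_card_out theta fun h he => no_square (el g wc * h) ?_
  have hc := swap_checks
  simp only [Bool.and_eq_true] at hc
  have h2 := el_eq_of_eqW pi_g chain hc.1.2
  rw [el_append, el_append, el_reverse g g_inv hc.2, el_rep] at h2
  have hth : theta₀ (el g wx) = el g (wx.map sw) := by
    rw [map_el, el_map]
    refine el_congr fun x hx => theta₀_g ?_
    exact lt_of_lt_of_le (okW_iff.1 okW_wx x hx) (by decide)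
  have h1 : h * el g wx * h⁻¹ = el g (wx.map sw) := by
    have := congrArg (fun e : MulAut Cfsg.Spor.Suz => e (el g wx)) he
    simp only [MulAut.conj_apply] at this
    exact this.trans hth
  rw [← h2, ← h1]
  group

theorem card_out : Nat.card (Out Cfsg.Spor.Suz) = 2 := le_antisymm out_le two_le_out

end CfsgLib.CosetEnum.Suz.Rigid
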