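import Cfsg.Agent.Lib.CosetEnum.Suz.VTop
import Cfsg.Agent.Lib.CosetEnum.Suz.V0
import Cfsg.Agent.Lib.CosetEnum.Suz.V1
import Cfsg.Agent.Lib.CosetEnum.Suz.V2
import Cfsg.Agent.Lib.CosetEnum.Suz.V3
import Cfsg.Agent.Lib.CosetEnum.Suz.V4

set_option autoImplicit false
set_option linter.all false

namespace CfsgLib.CosetEnum.Suz

namespace VBound

open CfsgLib.CosetEnum

theorem bound_end : Finite (Level g []) ∧ Nat.card (Level g []) ≤ 1 :=
  ⟨(card_level_nil g).1, (card_level_nil g).2.le⟩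

theorem bound4 : Finite (Level g [2]) ∧ Nat.card (Level g [2]) ≤ 2 :=
  card_le_step V4.covers bound_end (by norm_num)

theorem bound3 : Finite (Level g [2, 3]) ∧ Nat.card (Level g [2, 3]) ≤ 16 :=
  card_le_step V3.covers bound4 (by norm_num)

theorem bound2 : Finite (Level g [0, 1, 2, 3]) ∧ Nat.card (Level g [0, 1, 2, 3]) ≤ 2160 :=
  card_le_step V2.covers bound3 (by norm_num)

theorem bound1 : Finite (Level g [0, 1, 2, 3, 5]) ∧ Nat.card (Level g [0, 1, 2, 3, 5]) ≤ 120960 :=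
  card_le_step V1.covers bound2 (by norm_num)

theorem bound0 : Finite (Level g [0, 1, 2, 3, 5, 6]) ∧ Nat.card (Level g [0, 1, 2, 3, 5, 6]) ≤ 19595520 :=
  card_le_step V0.covers bound1 (by norm_num)

theorem group_bound : Finite Cfsg.Spor.Suz ∧ Nat.card Cfsg.Spor.Suz ≤ 448345497600 := by
  obtain ⟨h1, h2⟩ := card_le_step (m := 448345497600) VTop.covers bound0 (by norm_num)
  exact ⟨Finite.of_equiv _ Subgroup.topEquiv.toEquiv, Subgroup.card_top (G := Cfsg.Spor.Suz) ▸ h2⟩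

end VBound

end CfsgLib.CosetEnum.Suz
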